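import Cfsg.Prelude.Def_CaseTheorems
import Cfsg.Agent.Lib.Bender.Gen.Final
import Cfsg.Agent.S0205
import Cfsg.Agent.Lib.LocalEven.Subnormal

/-!
Owner: helper28. All maximal 2-locals conjugate forces a strongly embedded subgroup: two different maximal
2-locals share no nontrivial 2-subgroup (take a largest shared one and look at its normalizer).
-/

set_option autoImplicit false
set_option linter.all false

namespace CfsgLib.OneClassLocal

open Subgroup
open scoped Pointwise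

universe u

variable {G : Type u} [Group G] [Finite G]

theorem exists_max_ge {X : Subgroup G} (hX : Cfsg.IsTwoLocal X) :
    ∃ L, Cfsg.IsMaximalTwoLocal L ∧ X ≤ L := by
  obtain ⟨L, hL, hmax⟩ := Set.exists_max_image {L : Subgroup G | Cfsg.IsTwoLocal L ∧ X ≤ L} (fun L => Nat.card L)
    (Set.toFinite _) ⟨X, hX, le_rfl⟩
  exact ⟨L, ⟨hL.1, fun N hN hLN => (eq_of_le_of_card_ge hLN (hmax N ⟨hN, hL.2.trans hLN⟩)).symm⟩, hL.2⟩

theorem mem_map_conj {g x : G} {H : Subgroup G} :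
    x ∈ H.map (MulAut.conj g).toMonoidHom ↔ g⁻¹ * x * g ∈ H := by
  constructor
  · rintro ⟨y, hy, rfl⟩
    simpa [mul_assoc] using hy
  · intro h
    exact ⟨_, h, by simp [mul_assoc]⟩

theorem map_conj_normalizer (g : G) (H : Subgroup G) :
    (normalizer (H : Set G)).map (MulAut.conj g).toMonoidHom =
      normalizer ((H.map (MulAut.conj g).toMonoidHom : Subgroup G) : Set G) :=
  map_equiv_normalizer_eq H (MulAut.conj g)

theorem isTwoLocal_map {L : Subgroup G} (h : Cfsg.IsTwoLocal L) (g : G) :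
    Cfsg.IsTwoLocal (L.map (MulAut.conj g).toMonoidHom) := by
  obtain ⟨T, hT, hT1, rfl⟩ := h
  exact ⟨T.map (MulAut.conj g).toMonoidHom, hT.map _,
    fun e => hT1 ((map_eq_bot_iff_of_injective T (MulAut.conj g).injective).1 e), map_conj_normalizer g T⟩

theorem map_conj_inv (g : G) (H : Subgroup G) :
    (H.map (MulAut.conj g).toMonoidHom).map (MulAut.conj g⁻¹).toMonoidHom = H := by
  ext x
  rw [mem_map_conj, mem_map_conj]
  simp [mul_assoc]

theorem map_conj_inv' (g : G) (H : Subgroup G) :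
    (H.map (MulAut.conj g⁻¹).toMonoidHom).map (MulAut.conj g).toMonoidHom = H := by
  simpa using map_conj_inv g⁻¹ H

theorem isMax_map {L : Subgroup G} (h : Cfsg.IsMaximalTwoLocal L) (g : G) :
    Cfsg.IsMaximalTwoLocal (L.map (MulAut.conj g).toMonoidHom) := by
  refine ⟨isTwoLocal_map h.1 g, fun N hN hle => ?_⟩
  have h1 := h.2 _ (isTwoLocal_map hN g⁻¹) (by
    have := map_mono (f := (MulAut.conj g⁻¹).toMonoidHom) hle
    rwa [map_conj_inv] at this)
  rw [← h1, map_conj_inv']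

/-- Every maximal 2-local contains a Sylow 2-subgroup of `G` above each of its 2-subgroups. -/
def FullSylow (G : Type u) [Group G] : Prop :=
  ∀ M : Subgroup G, Cfsg.IsMaximalTwoLocal M → ∀ T : Subgroup G, IsPGroup 2 T → T ≤ M →
    ∃ R : Sylow 2 G, T ≤ (R : Subgroup G) ∧ (R : Subgroup G) ≤ M

section
variable (hconj : ∀ M M' : Subgroup G, Cfsg.IsMaximalTwoLocal M → Cfsg.IsMaximalTwoLocal M' →
  ∃ g : G, M' = M.map (MulAut.conj g).toMonoidHom)
include hconj

theorem fullSylow [Fact (Nat.Prime 2)] (hS : ∀ S : Sylow 2 G, (S : Subgroup G) ≠ ⊥) : FullSylow G := by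
  intro M hM T hT hTM
  obtain ⟨S⟩ : Nonempty (Sylow 2 G) := inferInstance
  obtain ⟨M0, hM0, hSM0⟩ := exists_max_ge (X := normalizer ((S : Subgroup G) : Set G)) ⟨S, S.2, hS S, rfl⟩
  obtain ⟨g, rfl⟩ := hconj M0 M hM0 hM
  set M := M0.map (MulAut.conj g).toMonoidHom with hMdef
  have hPM : (S : Subgroup G).map (MulAut.conj g).toMonoidHom ≤ M := map_mono (le_normalizer.trans hSM0)
  obtain ⟨P, hP⟩ := (hT.comap_subtype (K := M)).exists_le_sylow
  have hQp : IsPGroup 2 ((P : Subgroup M).map M.subtype) := P.2.map _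
  obtain ⟨R, hR⟩ := hQp.exists_le_sylow
  have hQT : T ≤ (P : Subgroup M).map M.subtype := fun x hx => ⟨⟨x, hTM hx⟩, hP hx, rfl⟩
  obtain ⟨P', hP'⟩ := ((S.2.map (MulAut.conj g).toMonoidHom).comap_subtype (K := M)).exists_le_sylow
  have hcard : Nat.card ↥(R : Subgroup G) ≤ Nat.card ↥((P : Subgroup M).map M.subtype) := by
    rw [Nat.card_congr (R.equiv S).toEquiv, card_map_of_injective M.subtype_injective,
      Nat.card_congr (P.equiv P').toEquiv]
    calc Nat.card ↥(S : Subgroup G) = Nat.card ↥((S : Subgroup G).map (MulAut.conj g).toMonoidHom) :=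
          (card_map_of_injective (MulAut.conj g).injective).symm
      _ = Nat.card ↥(((S : Subgroup G).map (MulAut.conj g).toMonoidHom).subgroupOf M) :=
          (Nat.card_congr (subgroupOfEquivOfLe hPM).toEquiv).symm
      _ ≤ Nat.card ↥(P' : Subgroup M) := card_le_of_le hP'
  refine ⟨R, hQT.trans hR, ?_⟩
  rw [← eq_of_le_of_card_ge hR hcard]
  exact map_subtype_le _

theorem eq_of_normalizer_le [Fact (Nat.Prime 2)] (hF : FullSylow G) {M₁ M₃ T : Subgroup G}
    (h₁ : Cfsg.IsMaximalTwoLocal M₁) (h₃ : Cfsg.IsMaximalTwoLocal M₃) (hTp : IsPGroup 2 T)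
    (hT₁ : T ≤ M₁) (hN : normalizer (T : Set G) ≤ M₃)
    (hmax : ∀ U : Subgroup G, IsPGroup 2 U → U ≤ M₁ → U ≤ M₃ → Nat.card T < Nat.card U → M₁ = M₃) :
    M₁ = M₃ := by
  obtain ⟨R, hTR, hRM⟩ := hF M₁ h₁ T hTp hT₁
  rcases eq_or_lt_of_le hTR with he | hlt
  · obtain ⟨x, hx⟩ := hconj M₁ M₃ h₁ h₃
    have hRM₃ : (R : Subgroup G) ≤ M₃ := by rw [← he]; exact le_normalizer.trans hN
    have hxR : ((x • R : Sylow 2 G) : Subgroup G) ≤ M₃ := by
      intro y hy
      rw [Sylow.coe_subgroup_smul, mem_pointwise_smul_iff_inv_smul_mem] at hy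
      rw [hx, mem_map_conj]
      refine hRM ?_
      simpa [MulAut.smul_def, mul_assoc] using hy
    obtain ⟨m, hm⟩ := MulAction.exists_smul_eq (↥M₃) ((x • R).subtype hxR) (R.subtype hRM₃)
    have hm' : ((m : G) • (x • R) : Sylow 2 G) = R := by
      rw [Sylow.smul_subtype] at hm
      exact Sylow.subtype_injective hm
    rw [smul_smul, Sylow.smul_eq_iff_mem_normalizer] at hm'
    have hxm : (m : G) * x ∈ M₃ := hN (by rw [he]; exact hm')
    have hxM : x ∈ M₃ := (mul_mem_cancel_left m.2).1 hxm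
    ext y
    constructor
    · intro hy
      have : x * y * x⁻¹ ∈ M₃ := by rw [hx, mem_map_conj]; simpa [mul_assoc] using hy
      have := mul_mem (mul_mem (inv_mem hxM) this) hxM
      simpa [mul_assoc] using this
    · intro hy
      have h2 : x * y * x⁻¹ ∈ M₃ := mul_mem (mul_mem hxM hy) (inv_mem hxM)
      rw [hx, mem_map_conj] at h2
      simpa [mul_assoc] using h2
  · have hnil : Group.IsNilpotent ↥(R : Subgroup G) := R.2.isNilpotent
    have hlt' : T.subgroupOf R < ⊤ := lt_top_iff_ne_top.2 fun h => hlt.not_ge (subgroupOf_eq_top.1 h)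
    haveI := hnil
    have hnc := Group.normalizerCondition_of_isNilpotent _ hlt'
    set U' := normalizer ((T.subgroupOf (R : Subgroup G) : Subgroup ↥(R : Subgroup G)) : Set ↥(R : Subgroup G)) with hU'
    refine hmax (U'.map (R : Subgroup G).subtype) ((R.2.to_subgroup U').map _) ((map_subtype_le _).trans hRM)
      (le_trans ?_ hN) ?_
    · rintro _ ⟨u, hu, rfl⟩
      rw [mem_normalizer_iff]
      intro y
      constructor
      · intro hy
        have := (mem_normalizer_iff.1 hu ⟨y, hTR hy⟩).1 hy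
        exact this
      · intro hy
        have hyR : y ∈ (R : Subgroup G) := by
          have := mul_mem (mul_mem (inv_mem u.2) (hTR hy)) u.2
          simpa [mul_assoc] using this
        exact (mem_normalizer_iff.1 hu ⟨y, hyR⟩).2 hy
    · rw [card_map_of_injective (R : Subgroup G).subtype_injective]
      calc Nat.card T = Nat.card ↥(T.subgroupOf (R : Subgroup G)) := (Nat.card_congr (subgroupOfEquivOfLe hTR).toEquiv).symm
        _ < Nat.card ↥U' := by
          refine lt_of_le_of_ne (card_le_of_le hnc.le) fun e => hnc.ne (eq_of_le_of_card_ge hnc.le e.ge)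

theorem no_shared [Fact (Nat.Prime 2)] (hF : FullSylow G) {M₁ M₂ T : Subgroup G}
    (h₁ : Cfsg.IsMaximalTwoLocal M₁) (h₂ : Cfsg.IsMaximalTwoLocal M₂) (hne : M₁ ≠ M₂)
    (hTp : IsPGroup 2 T) (hT₁ : T ≤ M₁) (hT₂ : T ≤ M₂) : T = ⊥ := by
  by_contra hT
  obtain ⟨⟨⟨A, B⟩, U⟩, ⟨hA, hB, hAB, hU, hU1, hUA, hUB⟩, hmax⟩ := Set.exists_max_image
    {q : (Subgroup G × Subgroup G) × Subgroup G | Cfsg.IsMaximalTwoLocal q.1.1 ∧ Cfsg.IsMaximalTwoLocal q.1.2 ∧
      q.1.1 ≠ q.1.2 ∧ IsPGroup 2 q.2 ∧ q.2 ≠ ⊥ ∧ q.2 ≤ q.1.1 ∧ q.2 ≤ q.1.2}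
    (fun q => Nat.card q.2) (Set.toFinite _) ⟨((M₁, M₂), T), h₁, h₂, hne, hTp, hT, hT₁, hT₂⟩
  obtain ⟨C, hC, hNC⟩ := exists_max_ge (X := normalizer (U : Set G)) ⟨U, hU, hU1, rfl⟩
  have key : ∀ D, Cfsg.IsMaximalTwoLocal D → U ≤ D → D = C := fun D hD hUD =>
    eq_of_normalizer_le hconj hF hD hC hU hUD hNC fun W hW hWD hWC hlt => by
      by_contra hDC
      refine hlt.not_ge (hmax ((D, C), W) ⟨hD, hC, hDC, hW, fun e => ?_, hWD, hWC⟩)
      replace e : W = ⊥ := e
      rw [e, card_bot] at hlt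
      exact absurd hlt (not_lt.2 (Nat.card_pos))
  exact hAB ((key A hA hUA).trans (key B hB hUB).symm)

end

/-- The strongly embedded subgroup. -/
theorem exists_stronglyEmbedded [IsSimpleGroup G] (hna : ¬ IsMulCommutative G)
    (hconj : ∀ M M' : Subgroup G, Cfsg.IsMaximalTwoLocal M → Cfsg.IsMaximalTwoLocal M' →
      ∃ g : G, M' = M.map (MulAut.conj g).toMonoidHom) :
    ∃ M : Subgroup G, Cfsg.IsStronglyEmbedded M := by
  haveI : Fact (Nat.Prime 2) := ⟨Nat.prime_two⟩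
  have hnot2 : ¬ IsPGroup 2 G := by
    intro h
    haveI : Group.IsNilpotent G := h.isNilpotent
    exact hna ⟨⟨fun a b => (IsSimpleGroup.comm_iff_isSolvable.2 inferInstance a b)⟩⟩
  have h2 : 2 ∣ Nat.card G := by
    by_contra h
    exact hna ⟨⟨fun a b => (IsSimpleGroup.comm_iff_isSolvable.2
      (Cfsg.Agent.S0205.result (Nat.not_even_iff_odd.1 fun he => h he.two_dvd)) a b)⟩⟩
  have hS : ∀ S : Sylow 2 G, (S : Subgroup G) ≠ ⊥ := fun S => S.ne_bot_of_dvd_card h2
  have hF := fullSylow hconj hS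
  obtain ⟨S⟩ : Nonempty (Sylow 2 G) := inferInstance
  obtain ⟨M, hM, hSM⟩ := exists_max_ge (X := normalizer ((S : Subgroup G) : Set G)) ⟨S, S.2, hS S, rfl⟩
  obtain ⟨X, hXp, hX1, hMX⟩ := hM.1
  have hMtop : M ≠ ⊤ := by
    intro h
    rw [h, eq_comm, normalizer_eq_top_iff] at hMX
    rcases hMX.eq_bot_or_eq_top with e | e
    · exact hX1 e
    · rw [e] at hXp
      exact hnot2 (hXp.of_equiv Subgroup.topEquiv)
  refine ⟨M, hMtop, ?_, fun g hg => ?_⟩
  · exact even_iff_two_dvd.2 (dvd_trans (S.dvd_card_of_dvd_card h2) (card_dvd_of_le (le_normalizer.trans hSM)))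
  · rw [← Nat.not_even_iff_odd, even_iff_two_dvd]
    intro hev
    set g' := g with hg'
    obtain ⟨t, ht⟩ := exists_prime_orderOf_dvd_card' (G := ↥(M ⊓ M.map (MulAut.conj g).toMonoidHom)) 2 hev
    have hne : M ≠ M.map (MulAut.conj g).toMonoidHom := by
      intro he
      -- `g` would normalise `M`, and the normaliser of a maximal 2-local is the 2-local
      apply hg
      have hXM : X ≤ M := hMX ▸ le_normalizer
      have hcore : X ≤ Cfsg.pCoreOf 2 M := CfsgLib.LocalEvenB.le_pCoreOf hXM hXp hMX.le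
      have hQ : Cfsg.pCoreOf 2 M ≠ ⊥ := fun e => hX1 (le_bot_iff.1 (e ▸ hcore))
      have hNQ := hM.2 _ ⟨_, CfsgLib.LocalEvenB.isPGroup_pCoreOf M, hQ, rfl⟩
        (le_normalizer.trans (CfsgLib.LocalEven.normalizer_le_normalizer_pCoreOf M))
      rw [← hNQ]
      refine CfsgLib.LocalEven.normalizer_le_normalizer_pCoreOf M ?_
      exact CfsgLib.Bender.mem_normalizer_of_map_conj_eq he.symm
    have ht' : orderOf (t : G) = 2 := by rw [Subgroup.orderOf_coe]; exact ht
    have hTp : IsPGroup 2 ↥(zpowers (t : G)) := IsPGroup.of_card (n := 1) (by rw [Nat.card_zpowers, ht', pow_one])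
    have := no_shared hconj hF hM (isMax_map hM g) hne hTp (zpowers_le.2 t.2.1) (zpowers_le.2 t.2.2)
    rw [zpowers_eq_bot] at this
    rw [this, orderOf_one] at ht'
    exact absurd ht' (by norm_num)

theorem classify [IsSimpleGroup G] {M : Subgroup G} (hM : Cfsg.IsStronglyEmbedded M) :
    (∃ (F : Type) (_ : Field F) (_ : Fintype F) (n : ℕ), 2 ≤ n ∧ Fintype.card F = 2 ^ n ∧
        Nonempty (G ≃* Matrix.ProjectiveSpecialLinearGroup (Fin 2) F)) ∨
      Cfsg.Lie.IsoSuzuki G ∨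
      (∃ (F : Type) (_ : Field F) (_ : Fintype F) (n : ℕ), 2 ≤ n ∧ Fintype.card F = (2 ^ n) ^ 2 ∧
        Nonempty (G ≃* Cfsg.PSU 3 F (2 ^ n))) := by
  obtain ⟨U, hUM, hUn, hUp, hU, htr, hreg, hfour⟩ := Bender.simple_regular Bender.benderGen hM
  obtain ⟨t, hR, hF, hGeven, h2⟩ := CfsgLib.Lie.RankOneClass.exists_setup M hM U hUM
    (normal_subgroupOf_of_le_normalizer hUn) htr hreg
  obtain ⟨L, hLn, hLodd, hcases⟩ := Cfsg.Agent.S1136.result hR h2
  have hLtop : L = ⊤ := by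
    refine hLn.eq_bot_or_eq_top.resolve_left fun h => ?_
    rw [h, Subgroup.index_bot] at hLodd
    exact Nat.not_even_iff_odd.2 hLodd hGeven
  subst hLtop
  rcases hcases with ⟨F, iF, iFt, ⟨n, hn, hF⟩, ⟨e⟩⟩ | h | ⟨F, iF, iFt, n, hn, hF, ⟨e⟩⟩
  · exact Or.inl ⟨F, iF, iFt, n, hn, hF, ⟨Subgroup.topEquiv.symm.trans e⟩⟩
  · obtain ⟨F, iF, iFt, m, hm, hF, ⟨e⟩⟩ := h
    exact Or.inr (Or.inl ⟨F, iF, iFt, m, hm, hF, ⟨Subgroup.topEquiv.symm.trans e⟩⟩)
  · exact Or.inr (Or.inr ⟨F, iF, iFt, n, hn, hF, ⟨Subgroup.topEquiv.symm.trans e⟩⟩)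

end CfsgLib.OneClassLocal
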